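import Groth.Agent.L07.GabCoh.Frac

/-! An exact equivalence matching the structure sheaves is the pullback by an isomorphism. -/

set_option autoImplicit false
set_option linter.unusedSectionVars false
set_option linter.style.haveILetI false
set_option backward.defeqAttrib.useBackward true
set_option backward.isDefEq.respectTransparency false
set_option backward.isDefEq.respectTransparency.types false

universe u
open CategoryTheory CategoryTheory.Limits AlgebraicGeometry TopologicalSpace Opposite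
open Groth.L18.Frame (rs ro rs_rs rs_self rs_smul)

noncomputable section

namespace Groth.L07.GabCoh

open Groth.L07.PtAuto (CC OC BijOn ZeroOn app_rs app_congrC one₁)

variable {X Y : Scheme.{u}} [IsLocallyNoetherian X] [CompactSpace X] [IsLocallyNoetherian Y] [CompactSpace Y]
  (e₀ : Y ≃ₜ X) {Ψ : CC X ⥤ CC Y}
  (u : Ψ.obj (OC X) ≅ OC Y)

/-- The continuous map. -/
abbrev gm : Y.toTopCat ⟶ X.toTopCat := (TopCat.isoOfHomeo e₀).hom

variable (hΨ : SuppExact₂ (gm e₀) Ψ)

/-- The transported section. -/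
def eta (N : CC X) (U : X.Opens) (m : Γ(N.obj, U)) : Γ((Ψ.obj N).obj, pre (gm e₀) U) :=
  (exists_rel (u := u) hΨ N U m).choose

theorem eta_spec (N : CC X) (U : X.Opens) (m : Γ(N.obj, U)) : Rel (gm e₀) Ψ u N U m (eta e₀ u hΨ N U m) :=
  (exists_rel (u := u) hΨ N U m).choose_spec

/-- The transported function. -/
def rho (U : X.Opens) (r : Γ(X, U)) : Γ(Y, pre (gm e₀) U) := u.hom.hom.app (pre (gm e₀) U) (eta e₀ u hΨ (OC X) U r)

variable [Ψ.Additive]

theorem eta_eq {N : CC X} {U : X.Opens} {m : Γ(N.obj, U)} {n : Γ((Ψ.obj N).obj, pre (gm e₀) U)}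
    (h : Rel (gm e₀) Ψ u N U m n) : eta e₀ u hΨ N U m = n :=
  (rel_eq_iff hΨ (eta_spec e₀ u hΨ N U m) h).1 rfl

theorem eta_add (N : CC X) (U : X.Opens) (m m' : Γ(N.obj, U)) :
    eta e₀ u hΨ N U (m + m') = eta e₀ u hΨ N U m + eta e₀ u hΨ N U m' :=
  eta_eq e₀ u hΨ (rel_add hΨ (eta_spec e₀ u hΨ N U m) (eta_spec e₀ u hΨ N U m'))

theorem eta_smul (N : CC X) (U : X.Opens) (r : Γ(X, U)) (m : Γ(N.obj, U)) :
    eta e₀ u hΨ N U (r • m) = rho e₀ u hΨ U r • eta e₀ u hΨ N U m :=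
  eta_eq e₀ u hΨ (rel_smul hΨ (eta_spec e₀ u hΨ N U m) (eta_spec e₀ u hΨ (OC X) U r))

theorem eta_natural {N N' : CC X} (g : N ⟶ N') (U : X.Opens) (m : Γ(N.obj, U)) :
    eta e₀ u hΨ N' U (g.hom.app U m) = (Ψ.map g).hom.app (pre (gm e₀) U) (eta e₀ u hΨ N U m) :=
  eta_eq e₀ u hΨ ((eta_spec e₀ u hΨ N U m).comp g)

theorem eta_res (N : CC X) {U V : X.Opens} (h : V ≤ U) (m : Γ(N.obj, U)) :
    eta e₀ u hΨ N V (rs N.obj h m) = rs (Ψ.obj N).obj (pre_mono (gm e₀) h) (eta e₀ u hΨ N U m) :=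
  eta_eq e₀ u hΨ ((eta_spec e₀ u hΨ N U m).res h)

theorem eta_injective (N : CC X) (U : X.Opens) : Function.Injective (eta e₀ u hΨ N U) := fun m m' h =>
  (rel_eq_iff hΨ (eta_spec e₀ u hΨ N U m) (eta_spec e₀ u hΨ N U m')).2 h

theorem rho_one (U : X.Opens) : rho e₀ u hΨ U 1 = 1 := by
  set V := pre (gm e₀) U
  have hu : u.hom.hom.app V (u.inv.hom.app V (one₁ V)) = one₁ V := app_congrC u.inv_hom_id V _
  have h : Rel (gm e₀) Ψ u (OC X) U (one₁ U) (u.inv.hom.app V (one₁ V)) :=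
    ⟨OC X, 𝟙 _, 𝟙 _, one₁ U, u.inv.hom.app V (one₁ V),
      BijOn.of_isIso (𝟙 (OC X).obj) U, rfl, rfl,
      (app_congrC (show tmap Ψ u (𝟙 (OC X)) = u.hom by rw [tmap, Ψ.map_id, Category.id_comp]) V _).trans hu,
      app_congrC (Ψ.map_id (OC X)) V _⟩
  exact (congrArg (u.hom.hom.app V) (eta_eq e₀ u hΨ h)).trans hu

theorem rho_mul (U : X.Opens) (r r' : Γ(X, U)) : rho e₀ u hΨ U (r * r') = rho e₀ u hΨ U r * rho e₀ u hΨ U r' :=
  (congrArg (u.hom.hom.app (pre (gm e₀) U)) (eta_smul e₀ u hΨ (OC X) U r r')).trans (Scheme.Modules.Hom.app_smul _ _ _)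

theorem rho_add (U : X.Opens) (r r' : Γ(X, U)) : rho e₀ u hΨ U (r + r') = rho e₀ u hΨ U r + rho e₀ u hΨ U r' :=
  (congrArg (u.hom.hom.app (pre (gm e₀) U)) (eta_add e₀ u hΨ (OC X) U r r')).trans (map_add _ _ _)

theorem rho_res {U V : X.Opens} (h : V ≤ U) (r : Γ(X, U)) :
    rho e₀ u hΨ V (X.presheaf.map (homOfLE h).op r) = Y.presheaf.map (homOfLE (pre_mono (gm e₀) h)).op (rho e₀ u hΨ U r) :=
  (congrArg (u.hom.hom.app (pre (gm e₀) V)) (eta_res e₀ u hΨ (OC X) h r)).trans (app_rs _ (pre_mono (gm e₀) h) _)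

variable [Ψ.Full] (hess : ∀ N : CC Y, ∃ M : CC X, Nonempty (Ψ.obj M ≅ N))

include hess in
theorem eta_bijective (N : CC X) (U : X.Opens) : Function.Bijective (eta e₀ u hΨ N U) :=
  ⟨eta_injective e₀ u hΨ N U, fun n => by
    obtain ⟨m, hm⟩ := exists_rel' (u := u) hΨ hess N U n
    exact ⟨m, eta_eq e₀ u hΨ hm⟩⟩

include hess in
theorem rho_bijective (U : X.Opens) : Function.Bijective (rho e₀ u hΨ U) := by
  haveI : IsIso u.hom.hom := inferInstanceAs (IsIso ((ObjectProperty.ι _).map u.hom))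
  exact (ConcreteCategory.bijective_of_isIso (u.hom.hom.app (pre (gm e₀) U))).comp (eta_bijective e₀ u hΨ hess (OC X) U)

/-- The isomorphism of the structure sheaves. -/
def rhoIso : X.presheaf ≅ (TopCat.Presheaf.pushforward CommRingCat (gm e₀)).obj Y.presheaf :=
  NatIso.ofComponents
    (fun U => (RingEquiv.ofBijective
      ({ toFun := rho e₀ u hΨ U.unop
         map_one' := rho_one e₀ u hΨ _
         map_mul' := rho_mul e₀ u hΨ _
         map_zero' := add_eq_left.1 ((rho_add e₀ u hΨ _ 0 0).symm.trans (by rw [add_zero]))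
         map_add' := rho_add e₀ u hΨ _ } : Γ(X, U.unop) →+* Γ(Y, pre (gm e₀) U.unop))
      (rho_bijective e₀ u hΨ hess _)).toCommRingCatIso)
    (fun {U V} i => by
      ext r
      exact rho_res e₀ u hΨ i.unop.le r)

/-- The isomorphism. -/
def autIso : Y ≅ X :=
  let e : Y.toPresheafedSpace ≅ X.toPresheafedSpace :=
    PresheafedSpace.isoOfComponents (TopCat.isoOfHomeo e₀) (rhoIso e₀ u hΨ hess).symm
  let s : Y.toSheafedSpace ≅ X.toSheafedSpace := InducedCategory.isoMk e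
  let l := LocallyRingedSpace.isoOfSheafedSpaceIso s
  { hom := ⟨l.hom⟩
    inv := ⟨l.inv⟩
    hom_inv_id := Scheme.forgetToLocallyRingedSpace.map_injective l.hom_inv_id
    inv_hom_id := Scheme.forgetToLocallyRingedSpace.map_injective l.inv_hom_id }

/-- The transported sections as a morphism of modules. -/
def etaHom (N : CC X) : N.obj ⟶ (Scheme.Modules.pushforward (autIso e₀ u hΨ hess).hom).obj (Ψ.obj N).obj :=
  ⟨PresheafOfModules.homMk
    { app := fun U => AddCommGrpCat.ofHom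
        { toFun := fun m => eta e₀ u hΨ N U.unop m
          map_zero' := add_eq_left.1 ((eta_add e₀ u hΨ N U.unop 0 0).symm.trans (by rw [add_zero]))
          map_add' := eta_add e₀ u hΨ N U.unop }
      naturality := fun U V i => by
        ext m
        exact eta_res e₀ u hΨ N i.unop.le m }
    (fun U r m => eta_smul e₀ u hΨ N U.unop r m)⟩

theorem etaHom_app (N : CC X) (U : X.Opens) (m : Γ(N.obj, U)) :
    (etaHom e₀ u hΨ hess N).app U m = eta e₀ u hΨ N U m := rfl

instance isIso_etaHom (N : CC X) : IsIso (etaHom e₀ u hΨ hess N) :=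
  Scheme.Modules.Hom.isIso_iff_isIso_app.2 fun U =>
    (ConcreteCategory.isIso_iff_bijective _).2 (eta_bijective e₀ u hΨ hess N U)

/-- The natural isomorphism with the direct image. -/
def etaIso : ObjectProperty.ι _ ≅
    Ψ ⋙ ObjectProperty.ι _ ⋙ Scheme.Modules.pushforward (autIso e₀ u hΨ hess).hom :=
  NatIso.ofComponents (fun N => asIso (etaHom e₀ u hΨ hess N)) fun {N N'} g => by
    refine Scheme.Modules.hom_ext _ _ fun U => ?_
    ext m
    exact eta_natural e₀ u hΨ g U m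

/-- The functor is the pullback. -/
def pullIso : ObjectProperty.ι _ ⋙ Scheme.Modules.pullback (autIso e₀ u hΨ hess).hom ≅
    Ψ ⋙ ObjectProperty.ι _ :=
  let f := (autIso e₀ u hΨ hess).hom
  let A := Scheme.Modules.pullbackPushforwardAdjunction f
  haveI : IsIso A.counit := inferInstance
  Functor.isoWhiskerRight (etaIso e₀ u hΨ hess) (Scheme.Modules.pullback f) ≪≫
    Functor.isoWhiskerLeft (Ψ ⋙ ObjectProperty.ι _) (asIso A.counit) ≪≫ Functor.rightUnitor _

end Groth.L07.GabCoh
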