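import Groth.Agent.L07.PtAuto.Sib
import Groth.Agent.L16.CohGab.Closed

/-! An equivalence of categories of coherent modules gives a homeomorphism compatible with supports. -/

set_option autoImplicit false
set_option linter.style.haveILetI false
set_option backward.defeqAttrib.useBackward true
set_option backward.isDefEq.respectTransparency false
set_option backward.isDefEq.respectTransparency.types false

universe u
open CategoryTheory CategoryTheory.Limits AlgebraicGeometry TopologicalSpace
attribute [local instance] HasDerivedCategory.standard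

noncomputable section

namespace Groth.L07.GabCoh

open Groth.L07.PtAuto (CC)

variable {X Y : Scheme.{u}} [IsNoetherian X] [IsNoetherian Y]

local notation "ιX" => ObjectProperty.ι (fun M : X.Modules => Coh.IsCoh M)
local notation "ιY" => ObjectProperty.ι (fun M : Y.Modules => Coh.IsCoh M)

/-- Short exact sequences of coherent modules are preserved by exact functors on coherent modules. -/
theorem map_shortExact (Φ : CC X ⥤ CC Y) [Φ.Additive] [PreservesFiniteLimits Φ] [PreservesFiniteColimits Φ]
    {A B C : CC X} (f : A ⟶ B) (g : B ⟶ C) (w : f.hom ≫ g.hom = 0)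
    (hS : (ShortComplex.mk f.hom g.hom w).ShortExact) :
    ∃ w', (ShortComplex.mk (Φ.map f).hom (Φ.map g).hom w').ShortExact := by
  let S : ShortComplex (CC X) := ShortComplex.mk f g (ObjectProperty.hom_ext _ w)
  have hS' : S.ShortExact :=
    { exact := (S.exact_map_iff_of_faithful ιX).1 hS.exact
      mono_f := (ιX).mono_of_mono_map hS.mono_f
      epi_g := (ιX).epi_of_epi_map hS.epi_g }
  have h := (hS'.map_of_exact Φ).map_of_exact ιY
  exact ⟨((S.map Φ).map ιY).zero, h⟩

/-- Closed sets go along. -/
theorem support_map_subset (Φ : CC X ⥤ CC Y) [Φ.Additive] [PreservesFiniteLimits Φ] [PreservesFiniteColimits Φ]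
    {M N : CC X} (h : CohB1.support N.obj ⊆ CohB1.support M.obj) :
    CohB1.support (Φ.obj N).obj ⊆ CohB1.support (Φ.obj M).obj := by
  let Q : ObjectProperty X.Modules := fun A =>
    ∀ hA : Coh.IsCoh A, CohB1.support (Φ.obj ⟨A, hA⟩).obj ⊆ CohB1.support (Φ.obj M).obj
  have hQ : Groth.L16.CohGab.IsSerreCoh Q := fun S hS h₁ h₂ h₃ => by
    obtain ⟨w', hS'⟩ := map_shortExact Φ (ObjectProperty.homMk S.f : (⟨S.X₁, h₁⟩ : CC X) ⟶ ⟨S.X₂, h₂⟩)
      (ObjectProperty.homMk S.g : (⟨S.X₂, h₂⟩ : CC X) ⟶ ⟨S.X₃, h₃⟩) S.zero hS
    have e := Groth.L21.Mod.support_of_shortExact hS'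
    dsimp only at e
    refine ⟨fun H => ⟨fun _ => (e ▸ Set.subset_union_left).trans (H h₂), fun _ => (e ▸ Set.subset_union_right).trans (H h₂)⟩,
      fun H _ => e ▸ Set.union_subset (H.1 h₁) (H.2 h₃)⟩
  exact Groth.L16.CohGab.of_support_subset hQ M.property N.property (fun _ => subset_rfl) h N.property

variable (E : CC X ≌ CC Y)

theorem additive_functor : E.functor.Additive := by
  haveI : HasBinaryBiproducts (CC X) := HasBinaryBiproducts.of_hasBinaryProducts
  exact Functor.additive_of_preserves_binary_products E.functor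

theorem subset_iff (M N : CC X) : CohB1.support (E.functor.obj N).obj ⊆ CohB1.support (E.functor.obj M).obj ↔
    CohB1.support N.obj ⊆ CohB1.support M.obj := by
  haveI := additive_functor E
  haveI : E.inverse.Additive := additive_functor E.symm
  refine ⟨fun h => ?_, support_map_subset E.functor⟩
  have h1 := support_map_subset E.inverse h
  exact ((Groth.L21.Mod.support_congr ((ιX).mapIso (E.unitIso.app N))).le.trans h1).trans
    (Groth.L21.Mod.support_congr ((ιX).mapIso (E.unitIso.app M))).ge

/-- A coherent module with given support. -/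
def supported (Z : Closeds X) : CC X :=
  ⟨(Groth.L16.CohGab.exists_coh_support Z).choose, (Groth.L16.CohGab.exists_coh_support Z).choose_spec.1⟩

theorem support_supported (Z : Closeds X) : CohB1.support (supported Z).obj = (Z : Set X) :=
  (Groth.L16.CohGab.exists_coh_support Z).choose_spec.2

/-- The map on closed sets. -/
def imageClosed (Z : Closeds X) : Closeds Y :=
  ⟨CohB1.support (E.functor.obj (supported Z)).obj, Groth.L16.CohGab.isClosed_support (E.functor.obj (supported Z)).property⟩

theorem imageClosed_support (M : CC X) :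
    (imageClosed E ⟨CohB1.support M.obj, Groth.L16.CohGab.isClosed_support M.property⟩ : Set Y) =
      CohB1.support (E.functor.obj M).obj := by
  set Z : Closeds X := ⟨CohB1.support M.obj, Groth.L16.CohGab.isClosed_support M.property⟩
  exact subset_antisymm ((subset_iff E _ _).2 (support_supported Z).le) ((subset_iff E _ _).2 (support_supported Z).ge)

/-- The order isomorphism on closed sets. -/
def closedsIso : Closeds X ≃o Closeds Y where
  toFun := imageClosed E
  invFun := imageClosed E.symm
  left_inv Z := by
    refine SetLike.coe_injective ?_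
    have h := imageClosed_support E.symm (E.functor.obj (supported Z))
    refine h.trans ?_
    rw [← support_supported Z]
    exact Groth.L21.Mod.support_congr ((ιX).mapIso (E.unitIso.app _).symm)
  right_inv Z := by
    refine SetLike.coe_injective ?_
    have h := imageClosed_support E (E.inverse.obj (supported Z))
    refine h.trans ?_
    rw [← support_supported Z]
    exact Groth.L21.Mod.support_congr ((ιY).mapIso (E.counitIso.app _))
  map_rel_iff' {Z W} := by
    refine (subset_iff E _ _).trans ?_
    rw [support_supported, support_supported]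
    rfl

section Order

variable {A B : Type*} [TopologicalSpace A] [TopologicalSpace B] [QuasiSober A] [QuasiSober B] [T0Space A] [T0Space B]

/-- The point closure. -/
def clp (a : A) : Closeds A := ⟨closure {a}, isClosed_closure⟩

omit [QuasiSober A] [T0Space A] in
theorem clp_le {a : A} {Z : Closeds A} : clp a ≤ Z ↔ a ∈ (Z : Set A) :=
  ⟨fun h => h (subset_closure rfl), fun h => Z.isClosed.closure_subset_iff.2 (Set.singleton_subset_iff.2 h)⟩

omit [QuasiSober A] [QuasiSober B] [T0Space A] [T0Space B] in
theorem isIrreducible_image (φ : Closeds A ≃o Closeds B) (b : B) :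
    IsIrreducible (φ.symm (clp b) : Set A) := by
  refine ⟨Set.nonempty_iff_ne_empty.2 fun h => ?_, ?_⟩
  · have h1 : φ.symm (clp b) = ⊥ := SetLike.coe_injective h
    have h2 : clp b = (⊥ : Closeds B) := by rw [← φ.apply_symm_apply (clp b), h1, map_bot]
    exact Set.notMem_empty b (clp_le.1 h2.le)
  · rw [isPreirreducible_iff_isClosed_union_isClosed]
    intro z₁ z₂ h₁ h₂ hsub
    let Z₁ : Closeds A := ⟨z₁, h₁⟩
    let Z₂ : Closeds A := ⟨z₂, h₂⟩
    have h : clp b ≤ φ (Z₁ ⊔ Z₂) := by
      rw [← φ.apply_symm_apply (clp b)]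
      exact φ.monotone hsub
    rw [map_sup] at h
    rcases (clp_le.1 h : b ∈ (φ Z₁ : Set B) ∪ (φ Z₂ : Set B)) with hb | hb
    · exact Or.inl ((φ.symm_apply_le).2 (clp_le.2 hb) : φ.symm (clp b) ≤ Z₁)
    · exact Or.inr ((φ.symm_apply_le).2 (clp_le.2 hb) : φ.symm (clp b) ≤ Z₂)

/-- The point map. -/
def pointMap (φ : Closeds A ≃o Closeds B) (b : B) : A :=
  (isIrreducible_image φ b).genericPoint

omit [QuasiSober B] [T0Space A] [T0Space B] in
theorem mem_iff (φ : Closeds A ≃o Closeds B) (b : B) (Z : Closeds A) :
    b ∈ (φ Z : Set B) ↔ pointMap φ b ∈ (Z : Set A) := by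
  have h := (isIrreducible_image φ b).isGenericPoint_genericPoint (φ.symm (clp b)).isClosed
  rw [← clp_le, ← φ.symm_apply_le, ← clp_le]
  have e : clp (pointMap φ b) = φ.symm (clp b) := SetLike.coe_injective h.def
  rw [e]

theorem pointMap_pointMap (φ : Closeds A ≃o Closeds B) (b : B) : pointMap φ.symm (pointMap φ b) = b := by
  have key : ∀ W : Closeds B, pointMap φ.symm (pointMap φ b) ∈ (W : Set B) ↔ b ∈ (W : Set B) := fun W => by
    rw [← mem_iff φ.symm, ← mem_iff φ, φ.apply_symm_apply]
  refine (Specializes.antisymm (specializes_iff_mem_closure.2 ?_) (specializes_iff_mem_closure.2 ?_)).eq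
  · exact (key (clp (pointMap φ.symm (pointMap φ b)))).1 (subset_closure rfl)
  · exact (key (clp b)).2 (subset_closure rfl)

/-- Order isomorphisms of closed sets come from homeomorphisms. -/
def homeo (φ : Closeds A ≃o Closeds B) : B ≃ₜ A where
  toFun := pointMap φ
  invFun := pointMap φ.symm
  left_inv := pointMap_pointMap φ
  right_inv a := by simpa using pointMap_pointMap φ.symm a
  continuous_toFun := continuous_iff_isClosed.2 fun s hs => by
    rw [show pointMap φ ⁻¹' s = (φ ⟨s, hs⟩ : Set B) from (Set.ext fun b => mem_iff φ b ⟨s, hs⟩).symm]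
    exact (φ ⟨s, hs⟩).isClosed
  continuous_invFun := continuous_iff_isClosed.2 fun s hs => by
    rw [show pointMap φ.symm ⁻¹' s = (φ.symm ⟨s, hs⟩ : Set A) from
      (Set.ext fun b => mem_iff φ.symm b ⟨s, hs⟩).symm]
    exact (φ.symm ⟨s, hs⟩).isClosed

end Order

/-- The homeomorphism. -/
def homeoOfEquiv : Y ≃ₜ X := homeo (closedsIso E)

theorem support_map (M : CC X) :
    CohB1.support (E.functor.obj M).obj = homeoOfEquiv E ⁻¹' CohB1.support M.obj := by
  rw [← imageClosed_support E M]
  exact Set.ext fun y => mem_iff (closedsIso E) y _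

end Groth.L07.GabCoh
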