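import Groth.Agent.L07.GabCoh.Supp

/-! Sections of coherent modules as fractions of morphisms, along a functor between two schemes. -/

set_option autoImplicit false
set_option linter.style.haveILetI false
set_option backward.defeqAttrib.useBackward true
set_option backward.isDefEq.respectTransparency false
set_option backward.isDefEq.respectTransparency.types false

universe u
open CategoryTheory CategoryTheory.Limits AlgebraicGeometry TopologicalSpace Opposite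
open Groth.L18.Frame (rs ro rs_rs rs_self rs_smul)

noncomputable section

namespace Groth.L07.GabCoh

open Groth.L07.PtAuto (CC OC BijOn ZeroOn app_rs app_congrC isCoh_pullback one₁ rs_one zeroOn_of_gen exists_rep)

variable {X Y : Scheme.{u}} [IsLocallyNoetherian X]

variable [IsLocallyNoetherian Y] (φ : Y.toTopCat ⟶ X.toTopCat) (Ψ : CC X ⥤ CC Y) (u : Ψ.obj (OC X) ≅ OC Y)

omit [IsLocallyNoetherian X] [IsLocallyNoetherian Y] in
theorem pre_mono (φ : Y.toTopCat ⟶ X.toTopCat) {U V : X.Opens} (h : V ≤ U) : pre φ V ≤ pre φ U :=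
  fun _ hy => h hy

/-- The trivialised image. -/
abbrev tmap {M : CC X} (a : M ⟶ OC X) : Ψ.obj M ⟶ OC Y := Ψ.map a ≫ u.hom

/-- Corresponding sections. -/
def Rel (N : CC X) (U : X.Opens) (m : Γ(N.obj, U)) (n : Γ((Ψ.obj N).obj, pre φ U)) : Prop :=
  ∃ (M : CC X) (a : M ⟶ OC X) (b : M ⟶ N) (t : Γ(M.obj, U)) (s : Γ((Ψ.obj M).obj, pre φ U)),
    BijOn a.hom U ∧ a.hom.app U t = one₁ U ∧ b.hom.app U t = m ∧
      (tmap Ψ u a).hom.app (pre φ U) s = one₁ (pre φ U) ∧ (Ψ.map b).hom.app (pre φ U) s = n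

variable {φ Ψ u}

theorem bij_tmap (hΨ : SuppExact₂ φ Ψ) {M : CC X} {a : M ⟶ OC X} {U : X.Opens} :
    BijOn a.hom U ↔ BijOn (tmap Ψ u a).hom (pre φ U) := by
  haveI : IsIso u.hom.hom := inferInstanceAs (IsIso ((ObjectProperty.ι _).map u.hom))
  refine (hΨ.bij_zero a U).1.trans ⟨fun h => h.comp (BijOn.of_isIso u.hom.hom (pre φ U)), fun h => ?_⟩
  have := h.comp (BijOn.of_isIso (inv u.hom.hom) (pre φ U))
  simpa [tmap] using this

theorem Rel.comp {N N' : CC X} {U : X.Opens} {m : Γ(N.obj, U)} {n : Γ((Ψ.obj N).obj, pre φ U)}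
    (h : Rel φ Ψ u N U m n) (g : N ⟶ N') : Rel φ Ψ u N' U (g.hom.app U m) ((Ψ.map g).hom.app (pre φ U) n) := by
  obtain ⟨M, a, b, t, s, ha, ht, rfl, hs, rfl⟩ := h
  exact ⟨M, a, b ≫ g, t, s, ha, ht, rfl, hs, by rw [Functor.map_comp]; rfl⟩

theorem Rel.res {N : CC X} {U V : X.Opens} (hV : V ≤ U) {m : Γ(N.obj, U)} {n : Γ((Ψ.obj N).obj, pre φ U)}
    (h : Rel φ Ψ u N U m n) : Rel φ Ψ u N V (rs N.obj hV m) (rs (Ψ.obj N).obj (pre_mono φ hV) n) := by
  obtain ⟨M, a, b, t, s, ha, ht, rfl, hs, rfl⟩ := h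
  exact ⟨M, a, b, rs M.obj hV t, rs (Ψ.obj M).obj (pre_mono φ hV) s, ha.mono hV,
    by rw [app_rs, ht, rs_one], app_rs _ _ _, by rw [app_rs, hs, rs_one], app_rs _ _ _⟩

variable (hΨ : SuppExact₂ φ Ψ)
include hΨ

theorem exists_rel [CompactSpace X] (N : CC X) (U : X.Opens) (m : Γ(N.obj, U)) : ∃ n, Rel φ Ψ u N U m n := by
  obtain ⟨M, a, b, t, ha, ht, hb⟩ := exists_rep N U m
  obtain ⟨s, hs⟩ := (((bij_tmap (u := u) hΨ).1 ha).app le_rfl).2 (one₁ (pre φ U))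
  exact ⟨_, M, a, b, t, s, ha, ht, hb, hs, rfl⟩

theorem exists_rel' [CompactSpace Y] [Ψ.Full] (hess : ∀ N : CC Y, ∃ M : CC X, Nonempty (Ψ.obj M ≅ N))
    (N : CC X) (U : X.Opens) (n : Γ((Ψ.obj N).obj, pre φ U)) : ∃ m, Rel φ Ψ u N U m n := by
  obtain ⟨M', a', b', t', ha', ht', hb'⟩ := exists_rep (Ψ.obj N) (pre φ U) n
  obtain ⟨M, ⟨e⟩⟩ := hess M'
  obtain ⟨a, ha⟩ := Ψ.map_surjective (e.hom ≫ a' ≫ u.inv)
  obtain ⟨b, hb⟩ := Ψ.map_surjective (e.hom ≫ b')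
  have ea : tmap Ψ u a = e.hom ≫ a' := by simp [tmap, ha]
  haveI : IsIso e.hom.hom := inferInstanceAs (IsIso ((ObjectProperty.ι _).map e.hom))
  have hbij : BijOn a.hom U :=
    (bij_tmap (u := u) hΨ).2 (by rw [ea]; exact (BijOn.of_isIso e.hom.hom (pre φ U)).comp ha')
  obtain ⟨t, ht⟩ := (hbij.app le_rfl).2 (one₁ U)
  have he : e.hom.hom.app (pre φ U) (e.inv.hom.app (pre φ U) t') = t' :=
    app_congrC (e.inv_hom_id) (pre φ U) _
  refine ⟨b.hom.app U t, M, a, b, t, e.inv.hom.app (pre φ U) t', hbij, ht, rfl, ?_, ?_⟩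
  · rw [ea]
    exact (congrArg (a'.hom.app (pre φ U)) he).trans ht'
  · rw [hb]
    exact (congrArg (b'.hom.app (pre φ U)) he).trans hb'

theorem eq_iff_map [Ψ.Additive] {P N : CC X} {U : X.Opens} (c : P ⟶ OC X) (hc : BijOn c.hom U)
    (t : Γ(P.obj, U)) (ht : c.hom.app U t = one₁ U) (s : Γ((Ψ.obj P).obj, pre φ U))
    (hs : (tmap Ψ u c).hom.app (pre φ U) s = one₁ (pre φ U)) (f g : P ⟶ N) :
    f.hom.app U t = g.hom.app U t ↔ (Ψ.map f).hom.app (pre φ U) s = (Ψ.map g).hom.app (pre φ U) s := by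
  have h1 : ∀ {Z : Scheme.{u}} {P N : CC Z} {W : Z.Opens} (f g : P ⟶ N) (t : Γ(P.obj, W)),
      (f - g).hom.app W t = f.hom.app W t - g.hom.app W t := fun _ _ _ => rfl
  refine ⟨fun h => ?_, fun h => ?_⟩
  · have z := zeroOn_of_gen c.hom hc t ht (f - g).hom (by rw [h1, h, sub_self])
    have := ((hΨ.bij_zero (f - g) U).2.1 z).app le_rfl s
    rw [Functor.map_sub, h1] at this
    exact sub_eq_zero.1 this
  · have z := zeroOn_of_gen _ ((bij_tmap (u := u) hΨ).1 hc) s hs (Ψ.map (f - g)).hom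
      (by rw [Functor.map_sub, h1, h, sub_self])
    have := ((hΨ.bij_zero (f - g) U).2.2 z).app le_rfl t
    rw [h1] at this
    exact sub_eq_zero.1 this

theorem exists_common {N N' : CC X} {U : X.Opens} {m : Γ(N.obj, U)} {n : Γ((Ψ.obj N).obj, pre φ U)}
    {m' : Γ(N'.obj, U)} {n' : Γ((Ψ.obj N').obj, pre φ U)} (h : Rel φ Ψ u N U m n) (h' : Rel φ Ψ u N' U m' n') :
    ∃ (P : CC X) (c : P ⟶ OC X) (b : P ⟶ N) (b' : P ⟶ N') (t : Γ(P.obj, U)) (s : Γ((Ψ.obj P).obj, pre φ U)),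
      BijOn c.hom U ∧ c.hom.app U t = one₁ U ∧ (tmap Ψ u c).hom.app (pre φ U) s = one₁ (pre φ U) ∧
      b.hom.app U t = m ∧ b'.hom.app U t = m' ∧ (Ψ.map b).hom.app (pre φ U) s = n ∧ (Ψ.map b').hom.app (pre φ U) s = n' := by
  obtain ⟨M, a, b, t, s, ha, ht, rfl, hs, rfl⟩ := h
  obtain ⟨M', a', b', t', s', ha', ht', rfl, hs', rfl⟩ := h'
  let P : CC X := ⟨pullback a.hom a'.hom, isCoh_pullback _ _ M.property M'.property (OC X).property.1⟩
  let p : P ⟶ M := ObjectProperty.homMk (pullback.fst _ _)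
  let p' : P ⟶ M' := ObjectProperty.homMk (pullback.snd _ _)
  have hw : p ≫ a = p' ≫ a' := ObjectProperty.hom_ext _ pullback.condition
  have hp : BijOn p.hom U := BijOn.pullback_fst (IsPullback.of_hasPullback _ _) ha'
  obtain ⟨t₀, ht₀⟩ := (hp.app le_rfl).2 t
  have ht₀' : p'.hom.app U t₀ = t' := (ha'.app le_rfl).1 (by
    rw [ht']
    refine Eq.trans ?_ ht
    rw [← ht₀]
    exact app_congrC (hw.symm) U _)
  obtain ⟨s₀, hs₀⟩ := (((hΨ.bij_zero p U).1.1 hp).app le_rfl).2 s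
  have hs₀' : (Ψ.map p').hom.app (pre φ U) s₀ = s' := (((bij_tmap (u := u) hΨ).1 ha').app le_rfl).1 (by
    rw [hs']
    refine Eq.trans ?_ hs
    rw [← hs₀]
    have : Ψ.map p' ≫ tmap Ψ u a' = Ψ.map p ≫ tmap Ψ u a := by
      rw [tmap, tmap, ← Functor.map_comp_assoc, ← Functor.map_comp_assoc, hw]
    exact app_congrC (this) (pre φ U) _)
  refine ⟨P, p ≫ a, p ≫ b, p' ≫ b', t₀, s₀, hp.comp ha, ?_, ?_, ?_, ?_, ?_, ?_⟩
  · exact (congrArg (a.hom.app U) ht₀).trans ht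
  · rw [tmap, Functor.map_comp, Category.assoc]
    exact (congrArg ((tmap Ψ u a).hom.app (pre φ U)) hs₀).trans hs
  · exact congrArg (b.hom.app U) ht₀
  · exact congrArg (b'.hom.app U) ht₀'
  · rw [Functor.map_comp]; exact congrArg ((Ψ.map b).hom.app (pre φ U)) hs₀
  · rw [Functor.map_comp]; exact congrArg ((Ψ.map b').hom.app (pre φ U)) hs₀'

theorem rel_eq_iff [Ψ.Additive] {N : CC X} {U : X.Opens} {m m' : Γ(N.obj, U)}
    {n n' : Γ((Ψ.obj N).obj, pre φ U)} (h : Rel φ Ψ u N U m n) (h' : Rel φ Ψ u N U m' n') : m = m' ↔ n = n' := by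
  obtain ⟨P, c, b, b', t, s, hc, ht, hs, rfl, rfl, rfl, rfl⟩ := exists_common hΨ h h'
  exact eq_iff_map hΨ c hc t ht s hs b b'

theorem rel_add [Ψ.Additive] {N : CC X} {U : X.Opens} {m m' : Γ(N.obj, U)}
    {n n' : Γ((Ψ.obj N).obj, pre φ U)} (h : Rel φ Ψ u N U m n) (h' : Rel φ Ψ u N U m' n') :
    Rel φ Ψ u N U (m + m') (n + n') := by
  obtain ⟨P, c, b, b', t, s, hc, ht, hs, rfl, rfl, rfl, rfl⟩ := exists_common hΨ h h'
  exact ⟨P, c, b + b', t, s, hc, ht, rfl, hs, by rw [Functor.map_add]; rfl⟩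

theorem rel_smul {N : CC X} {U : X.Opens} {m : Γ(N.obj, U)} {n : Γ((Ψ.obj N).obj, pre φ U)} {r : Γ(X, U)}
    {q : Γ((Ψ.obj (OC X)).obj, pre φ U)} (h : Rel φ Ψ u N U m n) (hr : Rel φ Ψ u (OC X) U r q) :
    Rel φ Ψ u N U (r • m) ((show Γ(Y, pre φ U) from u.hom.hom.app (pre φ U) q) • n) := by
  obtain ⟨M, a, b, t, s, ha, ht, rfl, hs, rfl⟩ := h
  obtain ⟨R, c, d, tR, sR, hc, htR, rfl, hsR, rfl⟩ := hr
  let P : CC X := ⟨pullback d.hom a.hom, isCoh_pullback _ _ R.property M.property (OC X).property.1⟩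
  let q : P ⟶ R := ObjectProperty.homMk (pullback.fst _ _)
  let p : P ⟶ M := ObjectProperty.homMk (pullback.snd _ _)
  have hw : p ≫ a = q ≫ d := ObjectProperty.hom_ext _ pullback.condition.symm
  have hq : BijOn q.hom U := BijOn.pullback_fst (IsPullback.of_hasPullback _ _) ha
  obtain ⟨t₀, ht₀⟩ := (hq.app le_rfl).2 tR
  let r : Γ(X, U) := d.hom.app U tR
  have hp : p.hom.app U t₀ = r • t := (ha.app le_rfl).1 (by
    rw [Scheme.Modules.Hom.app_smul, ht]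
    refine Eq.trans ?_ (mul_one r).symm
    refine (app_congrC (hw) U _).trans ?_
    exact congrArg (d.hom.app U) ht₀)
  obtain ⟨s₀, hs₀⟩ := (((hΨ.bij_zero q U).1.1 hq).app le_rfl).2 sR
  let ρr : Γ(Y, pre φ U) := u.hom.hom.app (pre φ U) ((Ψ.map d).hom.app (pre φ U) sR)
  have hp' : (Ψ.map p).hom.app (pre φ U) s₀ = ρr • s := (((bij_tmap (u := u) hΨ).1 ha).app le_rfl).1 (by
    rw [Scheme.Modules.Hom.app_smul, hs]
    refine Eq.trans ?_ (mul_one ρr).symm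
    have : Ψ.map p ≫ tmap Ψ u a = Ψ.map q ≫ Ψ.map d ≫ u.hom := by
      rw [tmap, ← Functor.map_comp_assoc, ← Functor.map_comp_assoc, hw]
    refine (app_congrC (this) (pre φ U) _).trans ?_
    exact congrArg (fun z => u.hom.hom.app (pre φ U) ((Ψ.map d).hom.app (pre φ U) z)) hs₀)
  refine ⟨P, q ≫ c, p ≫ b, t₀, s₀, hq.comp hc, ?_, ?_, ?_, ?_⟩
  · exact (congrArg (c.hom.app U) ht₀).trans htR
  · refine (congrArg (b.hom.app U) hp).trans ?_
    exact Scheme.Modules.Hom.app_smul b.hom r t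
  · rw [tmap, Functor.map_comp, Category.assoc]
    exact (congrArg ((tmap Ψ u c).hom.app (pre φ U)) hs₀).trans hsR
  · rw [Functor.map_comp]
    refine (congrArg ((Ψ.map b).hom.app (pre φ U)) hp').trans ?_
    exact Scheme.Modules.Hom.app_smul _ ρr s

end Groth.L07.GabCoh
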