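import Groth.Agent.L07.PtAuto.Frac

/-! Exact functors between coherent modules of two schemes, compatible with supports. -/

set_option autoImplicit false
set_option linter.style.haveILetI false
set_option backward.defeqAttrib.useBackward true
set_option backward.isDefEq.respectTransparency false
set_option backward.isDefEq.respectTransparency.types false

universe u
open CategoryTheory CategoryTheory.Limits AlgebraicGeometry TopologicalSpace Opposite

noncomputable section

namespace Groth.L07.GabCoh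

open Groth.L07.PtAuto

variable {X Y : Scheme.{u}}

/-- The preimage of an open. -/
abbrev pre (g : Y.toTopCat ⟶ X.toTopCat) (U : X.Opens) : Y.Opens := (Opens.map g).obj U

/-- An exact functor carrying supports along a continuous map. -/
structure SuppExact₂ (g : Y.toTopCat ⟶ X.toTopCat) (Φ : CC X ⥤ CC Y) : Prop where
  surj : Function.Surjective g
  supp : ∀ M : CC X, CohB1.support (Φ.obj M).obj = g ⁻¹' CohB1.support M.obj
  exact : ∀ {A B C : CC X} (f : A ⟶ B) (g : B ⟶ C) (w : f.hom ≫ g.hom = 0),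
    (ShortComplex.mk f.hom g.hom w).ShortExact →
      ∃ w', (ShortComplex.mk (Φ.map f).hom (Φ.map g).hom w').ShortExact

theorem SuppExact₂.bij_zero [IsLocallyNoetherian X] {g : Y.toTopCat ⟶ X.toTopCat} {Φ : CC X ⥤ CC Y}
    (hΦ : SuppExact₂ g Φ) {M N : CC X} (f : M ⟶ N) (U : X.Opens) :
    (BijOn f.hom U ↔ BijOn (Φ.map f).hom (pre g U)) ∧ (ZeroOn f.hom U ↔ ZeroOn (Φ.map f).hom (pre g U)) := by
  let K : CC X := ⟨kernel f.hom, (Groth.L16.CohKernel.isCoh_kernel_cokernel M.property N.property f.hom).1⟩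
  let C : CC X := ⟨cokernel f.hom, (Groth.L16.CohKernel.isCoh_kernel_cokernel M.property N.property f.hom).2⟩
  let ιK : K ⟶ M := ObjectProperty.homMk (kernel.ι f.hom)
  let πC : N ⟶ C := ObjectProperty.homMk (cokernel.π f.hom)
  let I : CC X := ⟨Abelian.image f.hom,
    (Groth.L16.CohKernel.isCoh_kernel_cokernel N.property C.property (cokernel.π f.hom)).1⟩
  let e : M ⟶ I := ObjectProperty.homMk (Abelian.factorThruImage f.hom)
  let i : I ⟶ N := ObjectProperty.homMk (Abelian.image.ι f.hom)
  have hg : e ≫ i = f := ObjectProperty.hom_ext _ (Abelian.image.fac f.hom)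
  have w₁ : ιK.hom ≫ e.hom = 0 := by
    rw [← cancel_mono (Abelian.image.ι f.hom), zero_comp]
    simp [ιK, e]
  have w₂ : i.hom ≫ πC.hom = 0 := kernel.condition _
  have h₂ : (ShortComplex.mk i.hom πC.hom w₂).ShortExact :=
    { exact := ShortComplex.exact_of_f_is_kernel _ (kernelIsKernel _)
      mono_f := inferInstanceAs (Mono (Abelian.image.ι f.hom))
      epi_g := inferInstanceAs (Epi (cokernel.π f.hom)) }
  have h₁ : (ShortComplex.mk ιK.hom e.hom w₁).ShortExact := by
    haveI : Mono ιK.hom := inferInstanceAs (Mono (kernel.ι f.hom))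
    haveI : Epi e.hom := inferInstanceAs (Epi (Abelian.factorThruImage f.hom))
    refine { exact := ShortComplex.exact_of_f_is_kernel _ ?_, mono_f := ‹_›, epi_g := ‹_› }
    exact isKernelOfComp _ _ (kernelIsKernel f.hom) (by simpa [ιK, e] using w₁) (Abelian.image.fac f.hom)
  obtain ⟨w₁', h₁'⟩ := hΦ.exact ιK e w₁ h₁
  obtain ⟨w₂', h₂'⟩ := hΦ.exact i πC w₂ h₂
  have hgh : f.hom = e.hom ≫ i.hom := congrArg (·.hom) hg.symm
  have hgΦ : (Φ.map f).hom = (Φ.map e).hom ≫ (Φ.map i).hom := by
    rw [← hg, Functor.map_comp]; rfl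
  have key := fun x => bij_zero_of_shortExact _ _ _ _ h₁ h₂ x
  have key' := fun y => bij_zero_of_shortExact _ _ _ _ h₁' h₂' y
  simp only [hΦ.supp] at key'
  simp only [BijOn, ZeroOn, hgh, hgΦ]
  refine ⟨⟨fun h y hy => ((key' y).1.2 ((key (g y)).1.1 (h (g y) hy))), fun h x hx => ?_⟩,
    ⟨fun h y hy => (key' y).2.2 ((key (g y)).2.1 (h (g y) hy)), fun h x hx => ?_⟩⟩
  · obtain ⟨y, rfl⟩ := hΦ.surj x
    exact (key (g y)).1.2 ((key' y).1.1 (h y hx))
  · obtain ⟨y, rfl⟩ := hΦ.surj x
    exact (key (g y)).2.2 ((key' y).2.1 (h y hx))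

end Groth.L07.GabCoh
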