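import Groth.Agent.L07.GabCoh.Base
import Groth.Agent.L07.GabCoh.Supp
import Groth.Agent.L07.PtAuto.LineImage

/-! An equivalence of coherent modules sends the structure sheaf to a line bundle. -/

set_option autoImplicit false
set_option linter.style.haveILetI false
set_option backward.defeqAttrib.useBackward true
set_option backward.isDefEq.respectTransparency false
set_option backward.isDefEq.respectTransparency.types false

universe u
open CategoryTheory CategoryTheory.Limits AlgebraicGeometry TopologicalSpace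
open IsLocalRing
attribute [local instance] HasDerivedCategory.standard

noncomputable section

namespace Groth.L07.GabCoh

open Groth.L07.PtAuto Groth.L07.BvdB.PointSky Groth.L00.Sky

variable {X Y : Scheme.{u}}

local notation "κ(" x ")" => Groth.L21.RR.resMod x

/-- Linear maps of stalks correspond to maps to the point. -/
def ptc (x : X) : (Groth.L00.Stk.F X x).obj (pt x) ≅ κ(x) := (nonempty_stalk_iso x).some

theorem exists_of_stalk {M : X.Modules} {x : X} (φ : (Groth.L00.Stk.F X x).obj M ⟶ κ(x)) :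
    ∃ p : M ⟶ pt x, (Groth.L00.Stk.F X x).map p ≫ (ptc x).hom = φ := by
  obtain ⟨e⟩ := nonempty_iso_sky x
  let c : (Groth.L00.Stk.F X x).obj (pt x) ≅ κ(x) :=
    (Groth.L00.Stk.F X x).mapIso e ≪≫ (counitIso x).app _
  refine ⟨(adj x).homEquiv _ _ (φ ≫ (ptc x).inv ≫ c.hom) ≫ e.inv, ?_⟩
  rw [← cancel_mono ((ptc x).inv ≫ c.hom)]
  simp only [Category.assoc, Iso.hom_inv_id_assoc]
  show _ ≫ (Groth.L00.Stk.F X x).map e.hom ≫ (adj x).counit.app _ = _
  rw [← Category.assoc, ← Functor.map_comp, Category.assoc, Iso.inv_hom_id, Category.comp_id]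
  exact (Adjunction.homEquiv_counit _ _ _ _).symm.trans (Equiv.symm_apply_apply _ _)

theorem map_injective_pt {M : X.Modules} {x : X} {p q : M ⟶ pt x}
    (h : (Groth.L00.Stk.F X x).map p = (Groth.L00.Stk.F X x).map q) : p = q := by
  obtain ⟨e⟩ := nonempty_iso_sky x
  refine (cancel_mono e.hom).1 (((adj x).homEquiv _ _).symm.injective ?_)
  rw [Adjunction.homEquiv_counit, Adjunction.homEquiv_counit, Functor.map_comp, Functor.map_comp, h]

theorem epi_to_pt {M : X.Modules} {x : X} (hx : IsClosed ({x} : Set X)) (p : M ⟶ pt x)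
    (h : Function.Surjective ((Groth.L00.Stk.F X x).map p)) : Epi p := by
  rw [Groth.L21.Mod.epi_iff_stalk_surjective]
  intro y
  by_cases hy : y = x
  · subst hy; exact h
  · haveI : Subsingleton ((pt x).presheaf.stalk y) :=
      subsingleton_of_not_mem fun hm => hy (support_pt_subset hx hm)
    exact fun t => ⟨0, @Subsingleton.elim _ (subsingleton_of_not_mem fun hm => hy (support_pt_subset hx hm)) _ _⟩

theorem surjective_of_ne_zero {M : X.Modules} {x : X} (p : M ⟶ pt x) (hp : p ≠ 0) :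
    Function.Surjective ((Groth.L00.Stk.F X x).map p) := by
  haveI : IsSimpleModule (X.presheaf.stalk x) ((Groth.L00.Stk.F X x).obj (pt x)) :=
    isSimpleModule_iff_quot_maximal.2 ⟨maximalIdeal _, inferInstance, ⟨(ptc x).toLinearEquiv⟩⟩
  refine (LinearMap.surjective_or_eq_zero ((Groth.L00.Stk.F X x).map p).hom).resolve_right fun h => hp ?_
  refine map_injective_pt (ModuleCat.hom_ext ?_)
  rw [h, Functor.map_zero]
  rfl

theorem mem_support_pt (x : X) : x ∈ CohB1.support (pt x) := fun h => by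
  haveI : Subsingleton ((Groth.L00.Stk.F X x).obj (pt x)) := h
  have h2 := (ptc x).toLinearEquiv.symm.toEquiv.subsingleton
  exact not_nontrivial_iff_subsingleton.2 h2 (inferInstanceAs (Nontrivial (ResidueField (X.presheaf.stalk x))))

theorem mono_from_pt {x : X} (hx : IsClosed ({x} : Set X)) {M : X.Modules} (p : pt x ⟶ M) (hp : p ≠ 0) : Mono p := by
  rw [Groth.L21.Mod.mono_iff_stalk_injective]
  intro y
  by_cases hy : y = x
  · subst hy
    haveI : IsSimpleModule (X.presheaf.stalk y) ((Groth.L00.Stk.F X y).obj (pt y)) :=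
      isSimpleModule_iff_quot_maximal.2 ⟨maximalIdeal _, inferInstance, ⟨(ptc y).toLinearEquiv⟩⟩
    refine (LinearMap.injective_or_eq_zero ((Groth.L00.Stk.F X y).map p).hom).resolve_right fun h => hp ?_
    refine Groth.L21.Mod.hom_ext_stalk fun z => AddCommGrpCat.hom_ext (AddMonoidHom.ext fun s => ?_)
    by_cases hz : z = y
    · subst hz
      rw [Functor.map_zero]
      exact congr($h s)
    · haveI : Subsingleton ((pt y).presheaf.stalk z) :=
        subsingleton_of_not_mem fun hm => hz (support_pt_subset hx hm)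
      rw [show s = 0 from @Subsingleton.elim _ ‹Subsingleton ((pt y).presheaf.stalk z)› _ _, map_zero, map_zero]
  · intro a b _
    exact @Subsingleton.elim _ (subsingleton_of_not_mem fun hm => hy (support_pt_subset hx hm)) a b

variable [IsNoetherian X] [IsNoetherian Y]

/-- The point as a coherent module. -/
abbrev S {x : X} (hx : IsClosed ({x} : Set X)) : CC X := ⟨pt x, isCoh_pt hx⟩

/-- Cyclic at a closed point. -/
def Cyc (M : CC X) {x : X} (hx : IsClosed ({x} : Set X)) : Prop :=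
  ∃ p₀ : M ⟶ S hx, Epi p₀.hom ∧ ∀ p : M ⟶ S hx, ∃ e : S hx ⟶ S hx, p = p₀ ≫ e

theorem Cyc.map (E : CC X ≌ CC Y) {M : CC X} {x : X} {hx : IsClosed ({x} : Set X)} {y : Y}
    {hy : IsClosed ({y} : Set Y)} (i : E.functor.obj (S hx) ≅ S hy) (h : Cyc M hx) : Cyc (E.functor.obj M) hy := by
  obtain ⟨p₀, he, hp⟩ := h
  haveI : Epi p₀ := (ObjectProperty.ι (fun M : X.Modules => Coh.IsCoh M)).epi_of_epi_map he
  refine ⟨E.functor.map p₀ ≫ i.hom, inferInstanceAs (Epi ((ObjectProperty.ι (fun M : Y.Modules => Coh.IsCoh M)).map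
    (E.functor.map p₀ ≫ i.hom))), fun p => ?_⟩
  obtain ⟨q, hq⟩ := E.functor.map_surjective (p ≫ i.inv)
  obtain ⟨e, rfl⟩ := hp q
  refine ⟨i.inv ≫ E.functor.map e ≫ i.hom, ?_⟩
  rw [Category.assoc, Iso.hom_inv_id_assoc, ← Category.assoc, ← E.functor.map_comp, hq, Category.assoc,
    Iso.inv_hom_id, Category.comp_id]

theorem Cyc.of_iso {M N : CC X} (e : M ≅ N) {x : X} {hx : IsClosed ({x} : Set X)} (h : Cyc M hx) : Cyc N hx := by
  obtain ⟨p₀, he, hp⟩ := h
  haveI := he
  haveI : IsIso e.inv.hom := inferInstanceAs (IsIso ((ObjectProperty.ι (fun M : X.Modules => Coh.IsCoh M)).map e.inv))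
  refine ⟨e.inv ≫ p₀, inferInstanceAs (Epi (e.inv.hom ≫ p₀.hom)), fun p => ?_⟩
  obtain ⟨j, hj⟩ := hp (e.hom ≫ p)
  exact ⟨j, by rw [Category.assoc, ← hj, Iso.inv_hom_id_assoc]⟩

theorem cyc_of_gen (M : CC X) {x : X} (hx : IsClosed ({x} : Set X)) (v : (Groth.L00.Stk.F X x).obj M.obj)
    (hv : Submodule.span (X.presheaf.stalk x) {v} = ⊤)
    (φ₀ : (Groth.L00.Stk.F X x).obj M.obj →ₗ[X.presheaf.stalk x] ResidueField (X.presheaf.stalk x))
    (h₀ : φ₀ v = 1) : Cyc M hx := by
  obtain ⟨p₀, hp₀⟩ := exists_of_stalk (x := x) (ModuleCat.ofHom φ₀ : _ ⟶ κ(x))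
  have hs : Function.Surjective ((Groth.L00.Stk.F X x).map p₀) := by
    intro t
    obtain ⟨r, hr⟩ := Ideal.Quotient.mk_surjective ((ptc x).hom t : ResidueField (X.presheaf.stalk x))
    refine ⟨r • v, (ptc x).toLinearEquiv.injective ?_⟩
    refine ((ConcreteCategory.congr_hom hp₀ (r • v)).trans ?_)
    show φ₀ (r • v) = (ptc x).hom t
    rw [map_smul, h₀, ← hr, Algebra.smul_def, mul_one]
    rfl
  refine ⟨ObjectProperty.homMk p₀, epi_to_pt hx p₀ hs, fun p => ?_⟩
  obtain ⟨r, hr⟩ := Ideal.Quotient.mk_surjective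
    ((ptc x).hom ((Groth.L00.Stk.F X x).map p.hom v) : ResidueField (X.presheaf.stalk x))
  obtain ⟨e, he⟩ := exists_of_stalk (x := x) ((ptc x).hom ≫
    (ModuleCat.ofHom (r • LinearMap.id) : κ(x) ⟶ κ(x)))
  refine ⟨ObjectProperty.homMk e, ObjectProperty.hom_ext _ (map_injective_pt ?_)⟩
  show (Groth.L00.Stk.F X x).map p.hom = (Groth.L00.Stk.F X x).map (p₀ ≫ e)
  rw [← cancel_mono (ptc x).hom, Functor.map_comp, Category.assoc, he, ← Category.assoc, hp₀]
  refine ModuleCat.hom_ext (LinearMap.ext_on hv ?_)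
  intro m hm
  rw [Set.mem_singleton_iff] at hm
  subst m
  show (ptc x).hom ((Groth.L00.Stk.F X x).map p.hom v) = r • φ₀ v
  rw [h₀, ← hr, Algebra.smul_def, mul_one]
  rfl

theorem Cyc.exists_gen {M : CC X} {x : X} {hx : IsClosed ({x} : Set X)} (h : Cyc M hx) :
    ∃ v : (Groth.L00.Stk.F X x).obj M.obj, Submodule.span (X.presheaf.stalk x) {v} = ⊤ := by
  obtain ⟨p₀, he, hp⟩ := h
  let R := X.presheaf.stalk x
  haveI : Module.Finite R ((Groth.L00.Stk.F X x).obj M.obj) := Groth.L19.SupportPullback.finite_stalk _ M.property x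
  let φ₀ := (Groth.L00.Stk.F X x).map p₀.hom ≫ (ptc x).hom
  have h₀ : Function.Surjective φ₀ := by
    haveI := he
    haveI : Epi ((Groth.L00.Stk.F X x).map p₀.hom) := inferInstance
    exact (ModuleCat.epi_iff_surjective _).1 inferInstance
  obtain ⟨v, hv⟩ := h₀ (1 : ResidueField R)
  refine ⟨v, ?_⟩
  rcases IsCoatomic.eq_top_or_exists_le_coatom (Submodule.span R {v}) with h | ⟨K, hK, hvK⟩
  · exact h
  exfalso
  haveI : IsSimpleModule R (_ ⧸ K) := isSimpleModule_iff_isCoatom.2 hK
  obtain ⟨J, hJ, ⟨eJ⟩⟩ := isSimpleModule_iff_quot_maximal.1 (‹IsSimpleModule R (_ ⧸ K)›)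
  obtain rfl : J = maximalIdeal R := IsLocalRing.eq_maximalIdeal hJ
  obtain ⟨p, hpe⟩ := exists_of_stalk (x := x) (ModuleCat.ofHom (eJ.toLinearMap.comp K.mkQ) : _ ⟶ κ(x))
  obtain ⟨e, hee⟩ := hp (ObjectProperty.homMk p)
  have hle : ∀ m, φ₀ m = 0 → m ∈ K := fun m hm => by
    have h1 : (Groth.L00.Stk.F X x).map p₀.hom m = 0 := (ptc x).toLinearEquiv.map_eq_zero_iff.1 hm
    have h2 : (ptc x).hom ((Groth.L00.Stk.F X x).map p m) = 0 := by
      rw [show p = p₀.hom ≫ e.hom from congrArg (·.hom) hee, Functor.map_comp]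
      show (ptc x).hom ((Groth.L00.Stk.F X x).map e.hom ((Groth.L00.Stk.F X x).map p₀.hom m)) = 0
      rw [h1, map_zero, map_zero]
    have h3 : eJ (K.mkQ m) = 0 := (ConcreteCategory.congr_hom hpe m).symm.trans h2
    exact (Submodule.Quotient.mk_eq_zero K).1 (eJ.map_eq_zero_iff.1 h3)
  refine hK.1 (eq_top_iff.2 fun m _ => ?_)
  obtain ⟨r, hr⟩ := Ideal.Quotient.mk_surjective (φ₀ m : ResidueField R)
  have h1 : φ₀ (m - r • v) = 0 := by
    rw [map_sub, map_smul, hv, ← hr, sub_eq_zero]
    show _ = r • (1 : ResidueField R)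
    rw [Algebra.smul_def, mul_one]
    rfl
  simpa using K.add_mem (hle _ h1) (K.smul_mem r (hvK (Submodule.mem_span_singleton_self v)))

variable (E : CC X ≌ CC Y)

attribute [local irreducible] homeoOfEquiv

/-- Points go to points. -/
theorem exists_iso_pt {y : Y} (hy : IsClosed ({y} : Set Y)) (hx : IsClosed ({homeoOfEquiv E y} : Set X)) :
    Nonempty (E.functor.obj (S hx) ≅ S hy) := by
  haveI := additive_functor E
  haveI : E.inverse.Additive := additive_functor E.symm
  let M := E.functor.obj (S hx)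
  have hM : y ∈ CohB1.support M.obj := by
    rw [support_map E]
    exact Set.mem_preimage.2 (mem_support_pt (homeoOfEquiv E y))
  obtain ⟨q, hq⟩ := exists_hom_pt M.property hM
  haveI : Epi q := epi_to_pt hy q (surjective_of_ne_zero q hq)
  let q' : M ⟶ S hy := ObjectProperty.homMk q
  haveI : Epi q' := (ObjectProperty.ι (fun M : Y.Modules => Coh.IsCoh M)).epi_of_epi_map ‹_›
  let p : S hx ⟶ E.inverse.obj (S hy) := E.unit.app (S hx) ≫ E.inverse.map q'
  have hp : p.hom ≠ 0 := fun h => hq (by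
    have h1 : p = 0 := ObjectProperty.hom_ext _ h
    have h2 : E.inverse.map q' = 0 := (cancel_epi (E.unit.app (S hx))).1 (h1.trans comp_zero.symm)
    exact congrArg (·.hom) (E.inverse.map_injective (h2.trans (E.inverse.map_zero _ _).symm)))
  haveI : Mono p.hom := mono_from_pt hx p.hom hp
  haveI : Mono p := (ObjectProperty.ι (fun M : X.Modules => Coh.IsCoh M)).mono_of_mono_map ‹_›
  haveI : Epi p := epi_comp _ _
  haveI : IsIso p := isIso_of_mono_of_epi p
  exact ⟨E.functor.mapIso (asIso p) ≪≫ E.counitIso.app _⟩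

theorem nonempty_stalk_line {y : Y} (hy : IsClosed ({y} : Set Y)) :
    Nonempty ((E.functor.obj (OC X)).obj.presheaf.stalk y ≃ₗ[Y.presheaf.stalk y] Y.presheaf.stalk y) := by
  haveI := additive_functor E
  have hx : IsClosed ({homeoOfEquiv E y} : Set X) := by
    have := (homeoOfEquiv E).isClosedMap _ hy
    rwa [Set.image_singleton] at this
  obtain ⟨i⟩ := exists_iso_pt E hy hx
  let x := homeoOfEquiv E y
  let R := Y.presheaf.stalk y
  let Ex := Groth.L15.Ref.strE x
  have hO : Cyc (OC X) hx := cyc_of_gen (OC X) hx (Ex 1)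
    (eq_top_iff.2 fun s _ => by
      obtain ⟨r, rfl⟩ := Ex.surjective s
      exact Submodule.mem_span_singleton.2 ⟨r, (Ex.map_smul r 1).symm.trans (congrArg Ex (mul_one r))⟩)
    ((Algebra.linearMap _ (ResidueField (X.presheaf.stalk x))).comp Ex.symm.toLinearMap)
    (by
      show algebraMap _ (ResidueField (X.presheaf.stalk x)) (Ex.symm (Ex 1)) = 1
      rw [Ex.symm_apply_apply, map_one])
  obtain ⟨v, hv⟩ := (hO.map E i).exists_gen
  let L := (E.functor.obj (OC X)).obj
  let Lx := (Groth.L00.Stk.F Y y).obj L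
  let l : R →ₗ[R] Lx := LinearMap.toSpanSingleton R Lx v
  have hl : Function.Surjective l := by
    rw [← LinearMap.range_eq_top, ← LinearMap.span_singleton_eq_range, hv]
  have hsurj : ∀ n : ℕ, ∃ φ : Lx →ₗ[R] R ⧸ maximalIdeal R ^ (n + 1), Function.Surjective φ := by
    intro n
    let T := ModuleCat.of R (R ⧸ maximalIdeal R ^ (n + 1))
    have hT : IsFiniteLength R T := Groth.L04.isFiniteLength_quotient_pow _
    obtain ⟨N, hN⟩ : ∃ N : ℕ, Module.length R T ≤ N := by
      obtain ⟨N, hN⟩ := ENat.ne_top_iff_exists.1 (Module.length_ne_top_iff.2 hT)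
      exact ⟨N, hN.ge⟩
    let Q : CC Y := ⟨sky y T, Groth.L07.BvdB.PointEfface.isCoh_sky hy N T hN⟩
    let cT := (counitIso y).app T
    have hle : (maximalIdeal R : Ideal R) ^ (n + 1) ≤ maximalIdeal R := Ideal.pow_le_self (by omega)
    let fq : (R ⧸ maximalIdeal R ^ (n + 1)) →ₗ[R] ResidueField R := Submodule.factor hle
    have hQ : Cyc Q hy := by
      refine cyc_of_gen Q hy (cT.inv (Ideal.Quotient.mk _ 1 : R ⧸ maximalIdeal R ^ (n + 1))) ?_
        (fq.comp cT.hom.hom) ?_
      · refine eq_top_iff.2 fun s _ => ?_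
        obtain ⟨r, hr⟩ := Ideal.Quotient.mk_surjective (cT.hom s : R ⧸ maximalIdeal R ^ (n + 1))
        refine Submodule.mem_span_singleton.2 ⟨r, cT.toLinearEquiv.injective ?_⟩
        show cT.hom (r • cT.inv _) = cT.hom s
        rw [map_smul, ← hr, ← ModuleCat.comp_apply, cT.inv_hom_id]
        show r • (Ideal.Quotient.mk _ 1 : R ⧸ maximalIdeal R ^ (n + 1)) = _
        rw [map_one, Algebra.smul_def, mul_one]
        rfl
      · show fq (cT.hom (cT.inv _)) = _
        rw [← ModuleCat.comp_apply, cT.inv_hom_id]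
        rfl
    let P := E.inverse.obj Q
    let iP : E.functor.obj P ≅ Q := E.counitIso.app Q
    obtain ⟨i'⟩ : Nonempty (E.symm.functor.obj (S hy) ≅ S hx) :=
      ⟨E.inverse.mapIso i.symm ≪≫ (E.unitIso.app _).symm⟩
    obtain ⟨w, hw⟩ := (Cyc.map E.symm i' hQ).exists_gen
    have hPs : CohB1.support P.obj ⊆ {x} := by
      intro z hz
      obtain ⟨z', rfl⟩ := (homeoOfEquiv E).surjective z
      have h1 : z' ∈ CohB1.support (E.functor.obj P).obj := by rw [support_map E]; exact hz
      have h2 := (Groth.L21.Mod.support_congr ((ObjectProperty.ι (fun M : Y.Modules => Coh.IsCoh M)).mapIso iP)).le h1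
      exact congrArg (homeoOfEquiv E) (Groth.L07.BvdB.PointEfface.support_sky hy T h2)
    obtain ⟨N₁, -, ⟨eP⟩⟩ := Groth.L07.BvdB.PointEfface.exists_sky hx P.property hPs
    haveI : ∀ N, IsIso ((adj x).counit.app N) := fun N => isIso_counit N
    let c₁ : (Groth.L00.Stk.F X x).obj P.obj ≅ N₁ := (Groth.L00.Stk.F X x).mapIso eP ≪≫ (counitIso x).app N₁
    let g : OC X ⟶ P := ObjectProperty.homMk ((adj x).homEquiv _ _
      (ModuleCat.ofHom ((LinearMap.toSpanSingleton _ _ (c₁.hom w)).comp Ex.symm.toLinearMap)) ≫ eP.inv)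
    haveI : Epi g.hom := by
      haveI : Epi ((adj x).homEquiv (Coh.structureModule X) N₁
          (ModuleCat.ofHom ((LinearMap.toSpanSingleton _ _ (c₁.hom w)).comp Ex.symm.toLinearMap))) := by
        rw [Groth.L21.Mod.epi_iff_stalk_surjective]
        intro z
        by_cases hz : z = x
        · subst hz
          intro t
          obtain ⟨a, ha⟩ := c₁.toLinearEquiv.surjective ((adj x).counit.app N₁ t)
          obtain ⟨r, hr⟩ := Submodule.mem_span_singleton.1 (hw.ge (Submodule.mem_top (x := a)))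
          refine ⟨Ex r, (ConcreteCategory.bijective_of_isIso ((adj x).counit.app N₁)).1 ?_⟩
          have h1 := ConcreteCategory.congr_hom ((Adjunction.homEquiv_counit (adj x) _ _ _).symm.trans
            (((adj x).homEquiv _ _).symm_apply_apply (ModuleCat.ofHom ((LinearMap.toSpanSingleton _ _ (c₁.hom w)).comp Ex.symm.toLinearMap)))) (Ex r)
          refine h1.trans ?_
          show (LinearMap.toSpanSingleton _ _ (c₁.hom w)) (Ex.symm (Ex r)) = _
          rw [Ex.symm_apply_apply, LinearMap.toSpanSingleton_apply, ← ha, ← hr]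
          exact (map_smul c₁.hom.hom r w).symm
        · intro t
          exact ⟨0, @Subsingleton.elim _ (Groth.L07.BvdB.PointEfface.subsingleton_stalk hx N₁ hz) _ _⟩
      exact inferInstanceAs (Epi (_ ≫ eP.inv))
    haveI : Epi g := (ObjectProperty.ι (fun M : X.Modules => Coh.IsCoh M)).epi_of_epi_map ‹_›
    let θ : L ⟶ sky y T := ((ObjectProperty.ι (fun M : Y.Modules => Coh.IsCoh M)).map (E.functor.map g ≫ iP.hom))
    haveI : Epi θ := inferInstanceAs (Epi ((ObjectProperty.ι (fun M : Y.Modules => Coh.IsCoh M)).map (E.functor.map g ≫ iP.hom)))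
    exact ⟨((Groth.L00.Stk.F Y y).map θ ≫ cT.hom).hom, (ModuleCat.epi_iff_surjective _).1 inferInstance⟩
  refine ⟨(LinearEquiv.ofBijective l ⟨(injective_iff_map_eq_zero l).2 fun r hr => ?_, hl⟩).symm⟩
  refine (Submodule.mem_bot R).1 ?_
  rw [← Ideal.iInf_pow_eq_bot_of_isLocalRing (maximalIdeal R) (Ideal.IsPrime.ne_top inferInstance),
    Ideal.mem_iInf]
  intro n
  obtain ⟨φ, hφ⟩ := hsurj n
  obtain ⟨m, hm⟩ := hφ 1
  obtain ⟨c, rfl⟩ := hl m
  have h1 : r • (1 : R ⧸ maximalIdeal R ^ (n + 1)) = 0 := by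
    rw [← hm, ← map_smul, ← map_smul l, smul_eq_mul, mul_comm, ← smul_eq_mul, map_smul l, hr,
      smul_zero, map_zero]
  rw [Algebra.smul_def, mul_one] at h1
  exact Ideal.pow_le_pow_right n.le_succ (Ideal.Quotient.eq_zero_iff_mem.1 h1)

theorem isInvertible_line : PicF.IsInvertible (E.functor.obj (OC X)).obj :=
  isInvertible_of_closed_stalks (E.functor.obj (OC X)).property fun _ hy => nonempty_stalk_line E hy

end Groth.L07.GabCoh
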