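import Groth.Agent.L07.GabCoh.Auto
import Groth.Agent.L07.GabCoh.Line
import Groth.Agent.L07.PtAuto.Main

/-! Equivalences of categories of coherent modules come from isomorphisms and twists. -/

set_option autoImplicit false
set_option linter.style.haveILetI false
set_option backward.defeqAttrib.useBackward true
set_option backward.isDefEq.respectTransparency false
set_option backward.isDefEq.respectTransparency.types false

universe u
open CategoryTheory CategoryTheory.Limits AlgebraicGeometry
attribute [local instance] HasDerivedCategory.standard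

noncomputable section

namespace Groth.L07.GabCoh

open Groth.L07.PtAuto (CC OC Tw)
open Groth.L00.Tensor
open Groth.L16.Rees.PushExact (rightModIso)
open Groth.L07.BvdB.PointEfface Groth.L07.BvdB.PointSelf

variable {X Y : Scheme.{u}} [IsNoetherian X] [IsNoetherian Y]

theorem exists_pullback_twist (F : CC X ≌ CC Y) :
    ∃ (f : Y ≅ X) (L : Y.Modules), PicF.IsInvertible L ∧
      Nonempty (F.functor ⋙ ObjectProperty.ι (fun M : Y.Modules => Coh.IsCoh M) ≅
        ObjectProperty.ι (fun M : X.Modules => Coh.IsCoh M) ⋙ Scheme.Modules.pullback f.hom ⋙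
          DCoh.tensorRightMod L) := by
  haveI := additive_functor F
  let L : Y.Modules := (F.functor.obj (OC X)).obj
  have hL : PicF.IsInvertible L := isInvertible_line F
  obtain ⟨N, hN, ⟨eN⟩⟩ := Groth.L08.Cube.exists_inverse hL
  let E := Groth.L21.Bundle.twistEquiv (L := N) (L' := L) eN
  haveI : (tensorRightF N).Full := (inferInstance : E.functor.Full)
  haveI : (tensorRightF N).Faithful := (inferInstance : E.functor.Faithful)
  haveI : (DCoh.tensorRightMod N).Full := Functor.Full.of_iso (rightModIso N).symm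
  haveI : (DCoh.tensorRightMod N).Faithful :=
    Functor.Faithful.of_iso (rightModIso N).symm
  haveI : (Tw N hN).Full := inferInstanceAs (ObjectProperty.lift _ _ _).Full
  haveI : (Tw N hN).Faithful := inferInstanceAs (ObjectProperty.lift _ _ _).Faithful
  let Ψ := F.functor ⋙ Tw N hN
  haveI : Ψ.Full := inferInstanceAs (F.functor ⋙ Tw N hN).Full
  haveI : Ψ.Additive := inferInstanceAs (F.functor ⋙ Tw N hN).Additive
  let e₀ := homeoOfEquiv F
  have hΨ : SuppExact₂ (gm e₀) Ψ :=
    { surj := e₀.surjective
      supp := fun M => (Groth.L03.Euler.support_tensor hN _).trans (support_map F M)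
      exact := fun f g w hS => by
        obtain ⟨w', hS'⟩ := map_shortExact F.functor f g w hS
        let S := ShortComplex.mk (F.functor.map f).hom (F.functor.map g).hom w'
        haveI : (DCoh.tensorRightMod N).PreservesZeroMorphisms := inferInstance
        have hT : (S.map (DCoh.tensorRightMod N)).ShortExact :=
          (ShortComplex.shortExact_iff_of_iso (S.mapNatIso (rightModIso N))).2
            (Groth.L03.Euler.shortExact_tensor hN hS')
        exact ⟨(S.map (DCoh.tensorRightMod N)).zero, hT⟩ }
  let u : Ψ.obj (OC X) ≅ OC Y := ObjectProperty.isoMk _ eN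
  have hess : ∀ M : CC Y, ∃ M₀ : CC X, Nonempty (Ψ.obj M₀ ≅ M) := by
    intro M
    let ML : CC Y := ⟨CohB1.tensorMod M.obj L, Groth.L03.Euler.isCoh_tensor hL M.property⟩
    exact ⟨F.inverse.obj ML, ⟨(Tw N hN).mapIso (F.counitIso.app ML) ≪≫ ObjectProperty.isoMk _
      (tensorAssoc M.obj L N ≪≫ tensorIso (Iso.refl _) eN ≪≫ tensorUnitRight M.obj)⟩⟩
  refine ⟨autIso e₀ u hΨ hess, L, hL, ⟨?_⟩⟩
  let back : DCoh.tensorRightMod N ⋙ DCoh.tensorRightMod L ≅ 𝟭 Y.Modules :=
    NatIso.hcomp (rightModIso N) (rightModIso L) ≪≫ E.unitIso.symm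
  let e₁ : F.functor ⋙ ObjectProperty.ι _ ≅ Ψ ⋙ ObjectProperty.ι _ ⋙ DCoh.tensorRightMod L :=
    (Functor.isoWhiskerLeft (F.functor ⋙ ObjectProperty.ι _) back ≪≫ Functor.rightUnitor _).symm
  exact e₁ ≪≫ Functor.isoWhiskerRight (pullIso e₀ u hΨ hess).symm (DCoh.tensorRightMod L)

end Groth.L07.GabCoh
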